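import Groth.Agent.Eta.Rel
import Groth.Agent.UnivHomeo.Basic
import Groth.Prelude.Def_HTop2

/-!
# Universal homeomorphisms with trivial residue extensions
-/

open Function CategoryTheory AlgebraicGeometry

noncomputable section

universe u

set_option backward.isDefEq.respectTransparency false
set_option backward.defeqAttrib.useBackward true

namespace EtaPt.FieldEndo

variable {A B : Type u} [CommRing A] [CommRing B]

lemma residueFieldMap_bijective_iff (ψ : A →+* B) (x : Spec (CommRingCat.of B)) :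
    Bijective ((Spec.map (CommRingCat.ofHom ψ)).residueFieldMap x) ↔
      Bijective (Ideal.ResidueField.map (PrimeSpectrum.comap ψ x).asIdeal x.asIdeal ψ rfl) := by
  let y : Spec (CommRingCat.of A) := Spec.map (CommRingCat.ofHom ψ) x
  let iB := (Scheme.Spec.residueFieldIso (CommRingCat.of B) x)
  let iA := (Scheme.Spec.residueFieldIso (CommRingCat.of A) y)
  have hA := ConcreteCategory.bijective_of_isIso iA.inv
  have hB := ConcreteCategory.bijective_of_isIso iB.inv
  have key : ((Spec.map (CommRingCat.ofHom ψ)).residueFieldMap x).hom.comp iA.inv.hom =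
      iB.inv.hom.comp (Ideal.ResidueField.map (PrimeSpectrum.comap ψ x).asIdeal x.asIdeal ψ rfl) := by
    refine Ideal.ResidueField.ringHom_ext (RingHom.ext fun a => ?_)
    refine ((congrArg _ (Groth.Agent.UnivHomeo.ev_eq y a).symm).trans
      ((Groth.Agent.UnivHomeo.residueFieldMap_ev ψ x a).trans (Groth.Agent.UnivHomeo.ev_eq x (ψ a)))).trans ?_
    exact congrArg _ (Ideal.ResidueField.map_algebraMap (PrimeSpectrum.comap ψ x).asIdeal x.asIdeal ψ rfl a).symm
  have key' : ⇑((Spec.map (CommRingCat.ofHom ψ)).residueFieldMap x) ∘ ⇑iA.inv =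
      ⇑iB.inv ∘ ⇑(Ideal.ResidueField.map (PrimeSpectrum.comap ψ x).asIdeal x.asIdeal ψ rfl) :=
    funext fun z => RingHom.congr_fun key z
  rw [← Bijective.of_comp_iff _ hA, key', Bijective.of_comp_iff' hB]

lemma isUnivHomeo_iff (ψ : A →+* B) :
    (FlatMor.IsUnivHomeo (Spec.map (CommRingCat.ofHom ψ)) ∧ HTop.ResidueFieldsIso (Spec.map (CommRingCat.ofHom ψ))) ↔
      ψ.IsIntegral ∧ Bijective (ident.{u}.Nmap ψ) := by
  rw [ident.{u}.Nmap_bijective_iff]
  constructor
  · rintro ⟨hh, hr⟩
    exact ⟨IsIntegralHom.SpecMap_iff.1 (Groth.Agent.UnivHomeo.isIntegralHom hh),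
      (Groth.Agent.UnivHomeo.isHomeomorph hh).bijective,
      fun Q => (residueFieldMap_bijective_iff ψ Q).1 (have := hr Q; ConcreteCategory.bijective_of_isIso _)⟩
  · rintro ⟨hi, hc, hm⟩
    have : IsIntegralHom (Spec.map (CommRingCat.ofHom ψ)) := IsIntegralHom.SpecMap_iff.mpr hi
    have : AlgebraicGeometry.Surjective (Spec.map (CommRingCat.ofHom ψ)) := ⟨hc.2⟩
    have hN : Bijective (ident.{u}.Nmap ψ) := (ident.{u}.Nmap_bijective_iff ψ).2 ⟨hc, hm⟩
    have : UniversallyInjective (Spec.map (CommRingCat.ofHom ψ)) := by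
      refine ((tfae_universallyInjective _).out 1 0 :
        (∀ (K : Type u) [Field K], Function.Injective fun g : Spec (.of K) ⟶ _ => g ≫ Spec.map (CommRingCat.ofHom ψ)) ↔
          UniversallyInjective (Spec.map (CommRingCat.ofHom ψ))).mp fun K _ g g' hg => ?_
      obtain ⟨g, rfl⟩ := Spec.map_surjective g
      obtain ⟨g', rfl⟩ := Spec.map_surjective g'
      have hg' : CommRingCat.ofHom ψ ≫ g = CommRingCat.ofHom ψ ≫ g' :=
        Spec.map_injective (by simpa only [Spec.map_comp] using hg)
      exact congrArg Spec.map (CommRingCat.hom_ext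
        (ident.{u}.hom_unique ψ hN (congrArg CommRingCat.Hom.hom hg')))
    refine ⟨Groth.Agent.UnivHomeo.of_isIntegralHom _, fun x => ?_⟩
    exact (ConcreteCategory.isIso_iff_bijective _).2 ((residueFieldMap_bijective_iff ψ x).2 (hm x))

end EtaPt.FieldEndo
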