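import Groth.Agent.Eta.Val

/-!
# Localization at an element
-/

open Function

noncomputable section

universe u

namespace EtaPt.FieldEndo

variable (η : FieldEndo.{u}) {A : Type u} [CommRing A] (f : A)

lemma lift_unit {L : Type*} [Field L] {g : A →+* L} (h : g f ≠ 0) : IsUnit (g f) := isUnit_iff_ne_zero.2 h

/-- the extension of a map to `A_f` -/
abbrev liftAway {L : Type*} [Field L] (g : A →+* L) (h : g f ≠ 0) : Localization.Away f →+* L :=
  IsLocalization.Away.lift f (isUnit_iff_ne_zero.2 h)

open Classical in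
/-- extension by zero outside `D(f)`, times `f` -/
def extend (z : η.N (Localization.Away f)) : η.N A := fun p =>
  if h : algebraMap A p.asIdeal.ResidueField f ≠ 0 then
    η.pt (liftAway f _ h) z * η.eta _ (algebraMap A p.asIdeal.ResidueField f)
  else 0

lemma res_ne {L : Type u} [Field L] {g : A →+* L} {p : PrimeSpectrum A} {i : p.asIdeal.ResidueField →+* L}
    (hi : i.comp (algebraMap A _) = g) (h : g f ≠ 0) : algebraMap A p.asIdeal.ResidueField f ≠ 0 := fun e =>
  h (by rw [← hi, RingHom.comp_apply, e, map_zero])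

lemma liftAway_comp {L : Type*} [Field L] (g : A →+* L) (h : g f ≠ 0) :
    (liftAway f g h).comp (algebraMap A (Localization.Away f)) = g :=
  IsLocalization.Away.lift_comp _ _

lemma away_hom_ext {L : Type*} [Semiring L] {u v : Localization.Away f →+* L}
    (h : u.comp (algebraMap A _) = v.comp (algebraMap A _)) : u = v :=
  IsLocalization.ringHom_ext (Submonoid.powers f) h

lemma pt_extend_of_ne (z : η.N (Localization.Away f)) {L : Type u} [Field L] (g : A →+* L) (h : g f ≠ 0) :
    η.pt g (η.extend f z) = η.pt (liftAway f g h) z * η.eta L (g f) := by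
  let p : PrimeSpectrum A := ⟨RingHom.ker g, inferInstance⟩
  obtain ⟨i, hi⟩ : ∃ i : p.asIdeal.ResidueField →+* L, i.comp (algebraMap A _) = g := exists_res g p rfl
  have h' := res_ne f hi h
  rw [η.pt_eq p i hi, extend, dif_pos h', map_mul, η.map_pt, η.eta_apply,
    show i (algebraMap A p.asIdeal.ResidueField f) = g f from RingHom.congr_fun hi f]
  congr 2
  refine congrArg _ (away_hom_ext f ?_)
  rw [RingHom.comp_assoc, liftAway_comp, liftAway_comp, hi]

lemma pt_extend_of_eq (z : η.N (Localization.Away f)) {L : Type u} [Field L] (g : A →+* L) (h : g f = 0) :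
    η.pt g (η.extend f z) = 0 := by
  let p : PrimeSpectrum A := ⟨RingHom.ker g, inferInstance⟩
  obtain ⟨i, hi⟩ : ∃ i : p.asIdeal.ResidueField →+* L, i.comp (algebraMap A _) = g := exists_res g p rfl
  rw [η.pt_eq p i hi, extend, dif_neg, map_zero]
  exact not_not.2 (i.injective (by rw [← RingHom.comp_apply, hi, h, map_zero]))

lemma Nmap_extend (z : η.N (Localization.Away f)) : η.Nmap (algebraMap A _) (η.extend f z) =
    z * η.t _ (algebraMap A (Localization.Away f) f) := by
  refine η.ext_pt fun L _ g => ?_
  have h : g (algebraMap A (Localization.Away f) f) ≠ 0 :=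
    ((IsLocalization.Away.algebraMap_isUnit f).map g).ne_zero
  rw [η.pt_Nmap, η.pt_extend_of_ne f z _ h, map_mul, η.pt_t]
  congr 2
  exact congrArg _ (away_hom_ext f (liftAway_comp f _ h))

lemma t_mul_eq_zero {x : η.N A} (h : η.Nmap (algebraMap A (Localization.Away f)) x = 0) : η.t A f * x = 0 := by
  refine η.ext_pt fun L _ g => ?_
  rw [map_mul, η.pt_t, map_zero]
  by_cases hf : g f = 0
  · rw [hf, map_zero, zero_mul]
  · rw [← liftAway_comp f g hf, ← η.pt_Nmap, h, map_zero, mul_zero]

lemma extend_mem_M {z : η.N (Localization.Away f)} (hz : z ∈ η.M (Localization.Away f))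
    (hint : ∀ (L : Type u) [Field L] (g : Localization.Away f →+* L),
      ((η.eta L).comp (g.comp (algebraMap A _))).IsIntegralElem (η.pt g z)) :
    η.extend f z ∈ η.M A := by
  refine η.mem_M_of _ fun R _ _ _ hR g => ?_
  let K := FractionRing R
  by_cases hc : g f = 0
  · exact ⟨0, fun P hP => ⟨P.ResidueField, inferInstance, algebraMap R _, Ideal.ker_algebraMap_residueField P,
      by rw [η.pt_extend_of_eq f z _ (by rw [RingHom.comp_apply, hc, map_zero]), map_zero, map_zero]⟩⟩
  have hc' : (algebraMap R K).comp g f ≠ 0 := fun e => hc (IsFractionRing.injective R K (e.trans (map_zero _).symm))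
  obtain ⟨r1, hr1⟩ := (hR : Bijective (η.eta K)).2 (η.pt (liftAway f _ hc') z)
  obtain ⟨s, hs⟩ : ∃ s, algebraMap R K s = r1 := by
    obtain ⟨P, hP, hP0⟩ := hint K (liftAway f _ hc')
    rw [liftAway_comp, ← hr1, ← Polynomial.hom_eval₂, ← map_zero (η.eta K)] at hP0
    exact IsIntegrallyClosed.isIntegral_iff.1 ⟨P.map g, hP.map g, by
      rw [Polynomial.eval₂_map]; exact hR.1 hP0⟩
  refine ⟨s * g f, fun P hP => ?_⟩
  by_cases hcP : g f ∈ P
  · refine ⟨P.ResidueField, inferInstance, algebraMap R _, Ideal.ker_algebraMap_residueField P, ?_⟩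
    have h0 : algebraMap R P.ResidueField (g f) = 0 := Ideal.algebraMap_residueField_eq_zero.2 hcP
    rw [η.pt_extend_of_eq f z _ h0, map_mul, h0, mul_zero, map_zero]
  obtain ⟨O, j, hj, hker⟩ := exists_valuation (algebraMap R K) P
    (by rw [(RingHom.injective_iff_ker_eq_bot _).1 (IsFractionRing.injective R K)]; exact bot_le)
  have hu : IsUnit (j (g f)) := by
    by_contra h
    refine hcP (hker.le ?_)
    rw [RingHom.mem_ker, RingHom.comp_apply, IsLocalRing.residue_eq_zero_iff]
    exact (IsLocalRing.mem_maximalIdeal _).2 h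
  let g' : Localization.Away f →+* O := IsLocalization.Away.lift f (g := j.comp g) hu
  have hg' : g'.comp (algebraMap A _) = j.comp g := IsLocalization.Away.lift_comp _ _
  obtain ⟨y, hy, hh⟩ := η.exists_value hz hR O g'
  have hys : y = j s := Subtype.ext (hR.1 (by
    show η.eta K y = η.eta K (O.subtype (j s))
    rw [hy, show O.subtype (j s) = algebraMap R K s from RingHom.congr_fun hj s, hs, hr1]
    exact congrArg (fun u => η.pt u z) (away_hom_ext f (by
      rw [liftAway_comp, RingHom.comp_assoc, hg', ← RingHom.comp_assoc, hj]))))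
  refine ⟨_, inferInstance, (IsLocalRing.residue O).comp j, hker, ?_⟩
  have h1 : ((IsLocalRing.residue O).comp j).comp g f ≠ 0 := fun e => hcP (hker.le e)
  rw [η.pt_extend_of_ne f z _ h1, show liftAway f _ h1 = (IsLocalRing.residue O).comp g' from away_hom_ext f (by
    rw [liftAway_comp, RingHom.comp_assoc, RingHom.comp_assoc, hg']), hh, hys, map_mul, map_mul]
  rfl

lemma exists_mem_M (hA : (minimalPrimes A).Finite) {y : η.N (Localization.Away f)}
    (hy : y ∈ η.M (Localization.Away f)) : ∃ x ∈ η.M A, ∃ n : ℕ,
      y * η.t (Localization.Away f) (algebraMap A (Localization.Away f) f) ^ n =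
        η.Nmap (algebraMap A (Localization.Away f)) x := by
  have hAf : (minimalPrimes (Localization.Away f)).Finite := by
    refine (hA.preimage (f := Ideal.comap (algebraMap A (Localization.Away f))) ?_).subset fun Q hQ => ?_
    · intro a _ b _ h
      change Ideal.under A a = Ideal.under A b at h
      rw [← IsLocalization.map_comap (Submonoid.powers f) (Localization.Away f) a,
        ← IsLocalization.map_comap (Submonoid.powers f) (Localization.Away f) b, h]
    · refine ⟨⟨hQ.1.1.comap _, bot_le⟩, fun q hq hle => ?_⟩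
      have := hQ.1.1
      have hd : Disjoint (Submonoid.powers f : Set A) q := by
        refine Set.disjoint_left.2 fun a ha haq => hQ.1.1.ne_top (Ideal.eq_top_of_isUnit_mem _ (hle haq) ?_)
        exact IsLocalization.map_units _ ⟨a, ha⟩
      have h2 := hQ.2 ⟨IsLocalization.isPrime_of_isPrime_disjoint (Submonoid.powers f) _ q hq.1 hd, bot_le⟩
        (Ideal.map_le_iff_le_comap.2 hle)
      calc Ideal.comap (algebraMap A _) Q ≤ Ideal.comap (algebraMap A _) (Ideal.map (algebraMap A _) q) :=
            Ideal.comap_mono h2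
        _ = q := IsLocalization.comap_map_of_isPrime_disjoint _ _ hq.1 hd
  let := (η.q (Localization.Away f)).toAlgebra
  let := ((η.q (Localization.Away f)).comp (algebraMap A _)).toAlgebra
  have : IsScalarTower A (Localization.Away f) (η.M (Localization.Away f)) := IsScalarTower.of_algebraMap_eq' rfl
  obtain ⟨⟨_, m, rfl⟩, hm⟩ := IsIntegral.exists_multiple_integral_of_isLocalization (Submonoid.powers f)
    (⟨y, hy⟩ : η.M (Localization.Away f)) (η.isIntegral_q hAf ⟨y, hy⟩ : IsIntegral (Localization.Away f) _)
  let z : η.N (Localization.Away f) := η.t _ (algebraMap A _ (f ^ m)) * y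
  have hz : z ∈ η.M _ := mul_mem (η.t_mem_M _ _) hy
  refine ⟨η.extend f z, η.extend_mem_M f hz (fun L _ g => ?_), m + 1, ?_⟩
  · obtain ⟨P, hP, hP0⟩ := hm
    rw [Submonoid.smul_def, Algebra.smul_def] at hP0
    refine ⟨P, hP, ?_⟩
    have h0 := congrArg ((η.pt g).comp (η.M (Localization.Away f)).subtype) hP0
    rw [Polynomial.hom_eval₂, map_zero] at h0
    have e1 : ((η.pt g).comp (η.M (Localization.Away f)).subtype).comp
        (algebraMap A (η.M (Localization.Away f))) = (η.eta L).comp (g.comp (algebraMap A _)) :=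
      RingHom.ext fun a => η.pt_t g (algebraMap A _ a)
    rw [e1] at h0
    exact h0
  · rw [η.Nmap_extend, show z = η.t _ (algebraMap A (Localization.Away f) (f ^ m)) * y from rfl, map_pow, map_pow]
    ring

end EtaPt.FieldEndo
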