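import Mathlib
import Groth.Prelude.Def_W4c1chowmix47Eta

/-!
# Purely inseparable endofunctors of fields: pointwise constructions
-/

open Function

noncomputable section

universe u

namespace EtaPt.FieldEndo

variable (η : FieldEndo.{u})

lemma hom_ext' {K : Type u} [Field K] {E : Type u} [Field E] (ι : K →+* E) (ψ : E →+* η.obj K)
    (hψ : ψ.comp ι = η.eta K) {L : Type*} [Field L] {u v : E →+* L} (h : u.comp ι = v.comp ι) : u = v := by
  ext y
  obtain ⟨n, a, ha⟩ := η.exists_pow_mem_range_eta K (ψ y)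
  have hy : y ^ ringExpChar K ^ n = ι a := ψ.injective (by rw [map_pow, ← ha, ← hψ]; rfl)
  have : ExpChar K (ringExpChar K) := inferInstance
  have : ExpChar L (ringExpChar K) := expChar_of_injective_ringHom (u.comp ι).injective _
  refine iterateFrobenius_inj L (ringExpChar K) n ?_
  rw [iterateFrobenius_def, iterateFrobenius_def, ← map_pow, ← map_pow, hy]
  exact RingHom.congr_fun h a

lemma hom_ext {K L : Type u} [Field K] [Field L] {u v : η.obj K →+* L} (h : u.comp (η.eta K) = v.comp (η.eta K)) :
    u = v :=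
  η.hom_ext' (η.eta K) (RingHom.id _) rfl h

lemma eta_apply {K L : Type u} [Field K] [Field L] (f : K →+* L) (x : K) :
    η.map f (η.eta K x) = η.eta L (f x) :=
  RingHom.congr_fun (η.eta_natural f) x

lemma map_map {K L E : Type u} [Field K] [Field L] [Field E] (f : K →+* L) (g : L →+* E) (x : η.obj K) :
    η.map g (η.map f x) = η.map (g.comp f) x := by
  rw [η.map_comp]; rfl

lemma map_id_apply {K : Type u} [Field K] (x : η.obj K) : η.map (RingHom.id K) x = x := by rw [η.map_id]; rfl

/-- `F(η) = η F` -/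
lemma map_eta (K : Type u) [Field K] : η.map (η.eta K) = η.eta (η.obj K) :=
  η.hom_ext (RingHom.ext fun x => η.eta_apply _ x)

/-- `F K` is a fixed point -/
lemma good_obj (K : Type u) [Field K] : Bijective (η.eta (η.obj K)) := η.map_eta K ▸ η.bijective_map_eta K

lemma map_bijective_of_equiv {K L : Type u} [Field K] [Field L] (e : K ≃+* L) : Bijective (η.map (e : K →+* L)) :=
  bijective_iff_has_inverse.2 ⟨η.map (e.symm : L →+* K),
    fun x => by rw [η.map_map, show (e.symm : L →+* K).comp (e : K →+* L) = RingHom.id K from RingHom.ext e.symm_apply_apply, map_id_apply],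
    fun x => by rw [η.map_map, show (e : K →+* L).comp (e.symm : L →+* K) = RingHom.id L from RingHom.ext e.apply_symm_apply, map_id_apply]⟩

lemma good_of_equiv {K L : Type u} [Field K] [Field L] (e : K ≃+* L) (h : Bijective (η.eta K)) :
    Bijective (η.eta L) := by
  have : (η.eta L) ∘ e = η.map (e : K →+* L) ∘ η.eta K := funext fun x => (η.eta_apply (e : K →+* L) x).symm
  exact (Bijective.of_comp_iff _ e.bijective).1 (this ▸ (η.map_bijective_of_equiv e).comp h)

/-- a partial retraction makes `F ι` bijective -/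
lemma map_bijective_of_factor {K E : Type u} [Field K] [Field E] {ι : K →+* E} (φ : E →+* η.obj K)
    (h : φ.comp ι = η.eta K) : Bijective (η.map ι) := by
  have h1 : Bijective (η.map φ ∘ η.map ι) := by
    rw [← RingHom.coe_comp, ← η.map_comp, h]; exact η.bijective_map_eta K
  exact (Bijective.of_comp_iff' ⟨(η.map φ).injective, h1.2.of_comp⟩ _).1 h1

/-- conversely -/
lemma factor_of_map_bijective {K E : Type u} [Field K] [Field E] (ι : K →+* E) (h : Bijective (η.map ι)) :
    ∃ φ : E →+* η.obj K, φ.comp ι = η.eta K :=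
  ⟨(RingEquiv.ofBijective _ h).symm.toRingHom.comp (η.eta E), RingHom.ext fun x =>
    (RingEquiv.ofBijective _ h).symm_apply_eq.2 (η.eta_apply ι x).symm⟩

variable {A : Type u} [CommRing A]

/-- the kernel of a map to a field -/
instance kerPrime {L : Type*} [Field L] (g : A →+* L) : (RingHom.ker g).IsPrime := RingHom.ker_isPrime g

/-- extend a map to a field to the residue field of its kernel -/
def res {L : Type*} [Field L] (g : A →+* L) : (RingHom.ker g).ResidueField →+* L :=
  Ideal.ResidueField.lift (RingHom.ker g) g le_rfl fun _ ha => isUnit_iff_ne_zero.2 ha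

lemma res_comp {L : Type*} [Field L] (g : A →+* L) : (res g).comp (algebraMap A _) = g :=
  RingHom.ext fun a => Ideal.ResidueField.lift_algebraMap (RingHom.ker g) g le_rfl (fun _ ha => isUnit_iff_ne_zero.2 ha) a

/-- value of a family at a point with values in a field -/
def pt {L : Type u} [Field L] (g : A →+* L) : η.N A →+* η.obj L :=
  (η.map (res g)).comp
    (Pi.evalRingHom (fun p : PrimeSpectrum A => η.obj p.asIdeal.ResidueField) ⟨RingHom.ker g, inferInstance⟩)

lemma pt_eq {L : Type u} [Field L] {g : A →+* L} (p : PrimeSpectrum A) (i : p.asIdeal.ResidueField →+* L)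
    (hi : i.comp (algebraMap A _) = g) (x : η.N A) : η.pt g x = η.map i (x p) := by
  obtain rfl : p = ⟨RingHom.ker g, inferInstance⟩ := by
    refine PrimeSpectrum.ext ?_
    show p.asIdeal = RingHom.ker g
    rw [← hi, RingHom.ker_comp_of_injective _ i.injective, Ideal.ker_algebraMap_residueField]
  refine congrFun (congrArg DFunLike.coe (congrArg η.map (Ideal.ResidueField.ringHom_ext (RingHom.ext fun a => ?_)))) _
  exact (RingHom.congr_fun (res_comp g) a).trans (RingHom.congr_fun hi a).symm

lemma pt_algebraMap (p : PrimeSpectrum A) (x : η.N A) : η.pt (algebraMap A p.asIdeal.ResidueField) x = x p := by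
  rw [η.pt_eq p (RingHom.id _) (RingHom.id_comp _), map_id_apply]

lemma map_pt {L L' : Type u} [Field L] [Field L'] (g : A →+* L) (h : L →+* L') (x : η.N A) :
    η.map h (η.pt g x) = η.pt (h.comp g) x := by
  rw [η.pt_eq (g := h.comp g) ⟨RingHom.ker g, inferInstance⟩ (h.comp (res g))
    (by rw [RingHom.comp_assoc, res_comp]), ← η.map_map]
  rfl

lemma Nmap_apply {B : Type u} [CommRing B] (f : A →+* B) (x : η.N A) (Q : PrimeSpectrum B) :
    η.Nmap f x Q = η.pt ((algebraMap B Q.asIdeal.ResidueField).comp f) x :=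
  (η.pt_eq (PrimeSpectrum.comap f Q)
    (Ideal.ResidueField.map (PrimeSpectrum.comap f Q).asIdeal Q.asIdeal f rfl)
    (RingHom.ext fun a => Ideal.ResidueField.map_algebraMap (PrimeSpectrum.comap f Q).asIdeal Q.asIdeal f rfl a) x).symm

lemma pt_Nmap {B L : Type u} [CommRing B] [Field L] (f : A →+* B) (g : B →+* L) (x : η.N A) :
    η.pt g (η.Nmap f x) = η.pt (g.comp f) x := by
  rw [η.pt_eq ⟨RingHom.ker g, inferInstance⟩ (res g) (res_comp g), η.Nmap_apply, η.map_pt, ← RingHom.comp_assoc,
    res_comp]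

lemma pt_t {L : Type u} [Field L] (g : A →+* L) (a : A) : η.pt g (η.t A a) = η.eta L (g a) := by
  exact (η.eta_apply _ _).trans (congrArg _ (RingHom.congr_fun (res_comp g) a))

lemma Nmap_comp {B C : Type u} [CommRing B] [CommRing C] (f : A →+* B) (g : B →+* C) (x : η.N A) :
    η.Nmap (g.comp f) x = η.Nmap g (η.Nmap f x) := by
  funext Q
  rw [η.Nmap_apply, η.Nmap_apply, η.pt_Nmap, RingHom.comp_assoc]

lemma ext_pt {x y : η.N A} (h : ∀ (L : Type u) [Field L] (g : A →+* L), η.pt g x = η.pt g y) : x = y :=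
  funext fun p => by rw [← η.pt_algebraMap p x, ← η.pt_algebraMap p y, h]

/-- membership in `M` through fields -/
lemma mem_M_iff {x : η.N A} : x ∈ η.M A ↔ ∀ (R : Type u) [CommRing R] [IsDomain R] [ValuationRing R], η.InV R →
    ∀ g : A →+* R, ∃ r : R, ∀ (k : Type u) [Field k] (h : R →+* k), η.pt (h.comp g) x = η.eta k (h r) := by
  constructor
  · intro hx R _ _ _ hR g
    obtain ⟨r, hr⟩ := hx R hR g
    exact ⟨r, fun k _ h => by rw [← η.pt_Nmap, ← hr, η.pt_t]⟩
  · intro hx R _ _ _ hR g
    obtain ⟨r, hr⟩ := hx R hR g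
    exact ⟨r, funext fun P => by rw [η.Nmap_apply, hr]; rfl⟩

lemma inV_valuationSubring {L : Type u} [Field L] (hL : Bijective (η.eta L)) (O : ValuationSubring L) : η.InV O :=
  η.good_of_equiv (FractionRing.algEquiv O L).symm.toRingEquiv hL

/-- the value of a member of `M` in a valuation subring -/
lemma exists_value {x : η.N A} (hx : x ∈ η.M A) {L : Type u} [Field L] (hL : Bijective (η.eta L))
    (O : ValuationSubring L) (g : A →+* O) : ∃ y : O, η.eta L y = η.pt (O.subtype.comp g) x ∧
      ∀ (k : Type u) [Field k] (h : O →+* k), η.pt (h.comp g) x = η.eta k (h y) := by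
  obtain ⟨r, hr⟩ := η.mem_M_iff.1 hx O (η.inV_valuationSubring hL O) g
  exact ⟨r, (hr L O.subtype).symm, hr⟩

/-- a valuation subring centred at a given prime -/
lemma exists_valuation {L : Type*} [Field L] (g : A →+* L) (q : Ideal A) [q.IsPrime] (hq : RingHom.ker g ≤ q) :
    ∃ (O : ValuationSubring L) (g' : A →+* O), O.subtype.comp g' = g ∧
      RingHom.ker ((IsLocalRing.residue O).comp g') = q := by
  let f : Localization.AtPrime q →+* L := IsLocalization.lift (M := q.primeCompl) (g := g)
    fun y => isUnit_iff_ne_zero.2 fun e => y.2 (hq e)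
  obtain ⟨O, hO, hloc⟩ := IsLocalRing.exists_factor_valuationRing f
  let g' : A →+* O := (f.codRestrict O.toSubring hO).comp (algebraMap A _)
  refine ⟨O, g', RingHom.ext fun a => IsLocalization.lift_eq _ a, Ideal.ext fun a => ?_⟩
  rw [RingHom.mem_ker, RingHom.comp_apply, IsLocalRing.residue_eq_zero_iff, IsLocalRing.mem_maximalIdeal,
    mem_nonunits_iff]
  constructor
  · intro h
    by_contra ha
    exact h ((IsLocalization.map_units (M := q.primeCompl) (Localization.AtPrime q) ⟨a, ha⟩).map
      (f.codRestrict O.toSubring hO))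
  · intro ha h
    exact (IsLocalization.AtPrime.isUnit_to_map_iff (Localization.AtPrime q) q a).1 (hloc.map_nonunit _ h) ha

/-- members of `M` are determined at minimal primes -/
lemma eq_zero_of_minimal {x : η.N A} (hx : x ∈ η.M A)
    (h : ∀ p : PrimeSpectrum A, p.asIdeal ∈ minimalPrimes A → x p = 0) : x = 0 := by
  funext q
  obtain ⟨p, hp, hpq⟩ := Ideal.exists_minimalPrimes_le (bot_le : (⊥ : Ideal A) ≤ q.asIdeal)
  have hp' := hp.1.1
  let g : A →+* η.obj p.ResidueField := (η.eta _).comp (algebraMap A p.ResidueField)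
  have hg : RingHom.ker g ≤ q.asIdeal := by
    exact (RingHom.ker_comp_of_injective _ (η.eta p.ResidueField).injective).trans_le ((Ideal.ker_algebraMap_residueField p).trans_le hpq)
  obtain ⟨O, g', hgg', hker⟩ := exists_valuation g q.asIdeal hg
  obtain ⟨y, hy, hh⟩ := η.exists_value hx (η.good_obj _) O g'
  have hy0 : y = 0 := Subtype.ext ((η.good_obj _).1 (by
    rw [hy, hgg', ← η.map_pt, η.pt_algebraMap ⟨p, hp'⟩, h ⟨p, hp'⟩ hp, map_zero, ZeroMemClass.coe_zero, map_zero]))
  have h0 := hh _ (IsLocalRing.residue O)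
  rw [hy0, map_zero, map_zero] at h0
  let i := Ideal.ResidueField.lift q.asIdeal ((IsLocalRing.residue O).comp g') hker.ge
    fun a ha => isUnit_iff_ne_zero.2 fun e => ha (hker.le e)
  rw [η.pt_eq q i (RingHom.ext fun a => Ideal.ResidueField.lift_algebraMap _ _ hker.ge
    (fun a ha => isUnit_iff_ne_zero.2 fun e => ha (hker.le e)) a)] at h0
  exact (η.map i).injective (h0.trans (map_zero _).symm)

lemma ext_minimal {x y : η.N A} (hx : x ∈ η.M A) (hy : y ∈ η.M A)
    (h : ∀ p : PrimeSpectrum A, p.asIdeal ∈ minimalPrimes A → x p = y p) : x = y :=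
  sub_eq_zero.1 (η.eq_zero_of_minimal (sub_mem hx hy) fun p hp => by rw [Pi.sub_apply, h p hp, sub_self])

/-- values of members of `M` are integral -/
lemma isIntegralElem_pt {x : η.N A} (hx : x ∈ η.M A) {L : Type u} [Field L] (g : A →+* L) :
    ((η.eta L).comp g).IsIntegralElem (η.pt g x) := by
  obtain ⟨y, hy⟩ : ∃ y : η.obj L, η.eta (η.obj L) y = η.pt ((η.eta L).comp g) x := (η.good_obj L).2 _
  let G : A →+* η.obj L := (η.eta L).comp g
  have hmem : y ∈ ⨅ V : {V : ValuationSubring (η.obj L) // (G.range : Set (η.obj L)) ⊆ V.toSubring},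
      V.1.toSubring := Subring.mem_iInf.2 fun ⟨V, hV⟩ => by
    obtain ⟨z, hz, -⟩ := η.exists_value hx (η.good_obj L) V (G.codRestrict V.toSubring fun a => hV ⟨a, rfl⟩)
    have : (z : η.obj L) = y := (η.good_obj L).1 (hz.trans hy.symm)
    exact this ▸ z.2
  rw [iInf_valuationSubring_superset, Subring.closure_eq] at hmem
  obtain ⟨P, hP, hP0⟩ := hmem
  obtain ⟨Q, hQ, -, hQm⟩ := Polynomial.lifts_and_degree_eq_and_monic
    (f := G.rangeRestrict) (p := P) (Polynomial.map_surjective _ G.rangeRestrict_surjective P) hP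
  refine ⟨Q, hQm, (η.map (η.eta L)).injective ?_⟩
  rw [Polynomial.hom_eval₂, map_zero, η.map_pt, ← hy, η.map_eta, ← Polynomial.hom_eval₂,
    ← map_zero (η.eta (η.obj L))]
  congr 1
  rw [← hP0, ← hQ, Polynomial.eval₂_map]
  rfl

/-- integrality -/
lemma isIntegral_q (hA : (minimalPrimes A).Finite) : (η.q A).IsIntegral := by
  classical
  intro x
  have hmin : ∀ p : hA.toFinset, p.1.IsPrime := fun p => (hA.mem_toFinset.1 p.2).1.1
  choose P hP hP0 using fun p : hA.toFinset =>
    have := hmin p
    η.isIntegralElem_pt x.2 (algebraMap A p.1.ResidueField)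
  refine ⟨∏ p, P p, Polynomial.monic_prod_of_monic _ _ fun p _ => hP p, Subtype.ext (η.eq_zero_of_minimal ?_ ?_)⟩
  · exact SetLike.coe_mem _
  · intro p hp
    let ev : η.M A →+* η.obj p.asIdeal.ResidueField :=
      (Pi.evalRingHom (fun p : PrimeSpectrum A => η.obj p.asIdeal.ResidueField) p).comp (η.M A).subtype
    change ev (Polynomial.eval₂ (η.q A) x (∏ p, P p)) = 0
    rw [Polynomial.hom_eval₂, Polynomial.eval₂_finsetProd]
    refine Finset.prod_eq_zero (Finset.mem_univ ⟨p.asIdeal, hA.mem_toFinset.2 hp⟩) ?_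
    have := hP0 ⟨p.asIdeal, hA.mem_toFinset.2 hp⟩
    rw [η.pt_algebraMap p] at this
    exact this

end EtaPt.FieldEndo
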