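import Groth.Agent.Eta.Basic

/-!
# Homeomorphic maps for an endofunctor of fields
-/

open Function

noncomputable section

universe u

namespace EtaPt.FieldEndo

variable (η : FieldEndo.{u}) {A B : Type u} [CommRing A] [CommRing B]

lemma pow_inj {L : Type*} [Field L] (p : ℕ) [ExpChar L p] {x y : L} {n : ℕ} (h : x ^ p ^ n = y ^ p ^ n) : x = y :=
  iterateFrobenius_inj L p n (by simpa [iterateFrobenius_def] using h)

/-- bijectivity of `Nmap f`, fibrewise -/
lemma Nmap_bijective_iff (f : A →+* B) : Bijective (η.Nmap f) ↔ Bijective (PrimeSpectrum.comap f) ∧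
    ∀ Q : PrimeSpectrum B, Bijective (η.map
      (Ideal.ResidueField.map (PrimeSpectrum.comap f Q).asIdeal Q.asIdeal f rfl)) := by
  classical
  let F := fun Q : PrimeSpectrum B => η.map
    (Ideal.ResidueField.map (PrimeSpectrum.comap f Q).asIdeal Q.asIdeal f rfl)
  have hval : ∀ (x : η.N A) Q, η.Nmap f x Q = F Q (x (PrimeSpectrum.comap f Q)) := fun _ _ => rfl
  constructor
  · rintro ⟨hi, hs⟩
    refine ⟨⟨fun Q Q' e => ?_, fun p => ?_⟩, fun Q => ⟨(F Q).injective, fun y => ?_⟩⟩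
    · by_contra hne
      obtain ⟨x, hx⟩ := hs (Pi.single Q 1)
      have h1 := congrFun hx Q'
      rw [hval, Pi.single_eq_of_ne (Ne.symm hne), map_eq_zero] at h1
      have h2 := congrFun hx Q
      rw [hval, Pi.single_eq_same] at h2
      have key : ∀ p p' : PrimeSpectrum A, p = p' → x p' = 0 → x p = 0 := by rintro p p' rfl h; exact h
      rw [key _ _ e h1, map_zero] at h2
      exact zero_ne_one h2
    · by_contra hne
      have h1 : η.Nmap f (Pi.single p 1) = η.Nmap f 0 := funext fun Q => by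
        rw [hval, hval, Pi.single_eq_of_ne (fun e => hne ⟨Q, e⟩), Pi.zero_apply]
      have := congrFun (hi h1) p
      rw [Pi.single_eq_same] at this
      exact one_ne_zero this
    · obtain ⟨x, hx⟩ := hs (Pi.single Q y)
      exact ⟨x (PrimeSpectrum.comap f Q), by rw [← hval, hx, Pi.single_eq_same]⟩
  · rintro ⟨hc, hm⟩
    refine ⟨fun x y h => funext fun p => ?_, fun y => ?_⟩
    · obtain ⟨Q, rfl⟩ := hc.2 p
      exact (hm Q).1 (by rw [← hval, ← hval, h])
    · let e := Equiv.ofBijective _ hc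
      choose z hz using fun Q => (hm Q).2 (y Q)
      refine ⟨Equiv.piCongrLeft (fun p : PrimeSpectrum A => η.obj p.asIdeal.ResidueField) e z, funext fun Q => ?_⟩
      rw [hval]
      exact (congrArg (F Q) (Equiv.piCongrLeft_apply_apply
        (fun p : PrimeSpectrum A => η.obj p.asIdeal.ResidueField) e z Q)).trans (hz Q)

/-- the residue condition, as factorization -/
lemma Nmap_bijective_iff' (f : A →+* B) : Bijective (η.Nmap f) ↔ Bijective (PrimeSpectrum.comap f) ∧
    ∀ Q : PrimeSpectrum B, ∃ φ : Q.asIdeal.ResidueField →+* η.obj (PrimeSpectrum.comap f Q).asIdeal.ResidueField,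
      φ.comp (Ideal.ResidueField.map (PrimeSpectrum.comap f Q).asIdeal Q.asIdeal f rfl) =
        η.eta (PrimeSpectrum.comap f Q).asIdeal.ResidueField := by
  rw [η.Nmap_bijective_iff]
  exact and_congr_right fun _ => forall_congr' fun Q =>
    ⟨η.factor_of_map_bijective _, fun ⟨φ, hφ⟩ => η.map_bijective_of_factor φ hφ⟩

lemma Nmap_injective_of_surjective (f : A →+* B) (hs : Surjective (PrimeSpectrum.comap f)) :
    Injective (η.Nmap f) := fun x y h => funext fun p => by
  obtain ⟨Q, rfl⟩ := hs p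
  exact (η.map _).injective (congrFun h Q)

/-- functoriality of `M` -/
lemma Nmap_mem_M (f : A →+* B) {x : η.N A} (hx : x ∈ η.M A) : η.Nmap f x ∈ η.M B :=
  η.mem_M_iff.2 fun R _ _ _ hR g => by
    obtain ⟨r, hr⟩ := η.mem_M_iff.1 hx R hR (g.comp f)
    exact ⟨r, fun k _ h => by rw [η.pt_Nmap, RingHom.comp_assoc, hr]⟩

lemma exists_res {L : Type*} [Field L] (g : A →+* L) (q : PrimeSpectrum A) (h : q.asIdeal = RingHom.ker g) :
    ∃ i : q.asIdeal.ResidueField →+* L, i.comp (algebraMap A _) = g :=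
  ⟨Ideal.ResidueField.lift q.asIdeal g h.le fun a ha => isUnit_iff_ne_zero.2 fun e => ha (h.ge e),
    RingHom.ext fun a => Ideal.ResidueField.lift_algebraMap _ _ h.le
      (fun a ha => isUnit_iff_ne_zero.2 fun e => ha (h.ge e)) a⟩

/-- maps to fields agreeing on `A` agree -/
lemma hom_unique (f : A →+* B) (hN : Bijective (η.Nmap f)) {L : Type u} [Field L] {v w : B →+* L}
    (h : v.comp f = w.comp f) : v = w := by
  obtain ⟨hc, hφ⟩ := (η.Nmap_bijective_iff' f).1 hN
  let Qv : PrimeSpectrum B := ⟨RingHom.ker v, inferInstance⟩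
  let Qw : PrimeSpectrum B := ⟨RingHom.ker w, inferInstance⟩
  have hQ : Qw = Qv := hc.1 (PrimeSpectrum.ext (by
    show (RingHom.ker w).comap f = (RingHom.ker v).comap f
    rw [RingHom.comap_ker, RingHom.comap_ker, h]))
  obtain ⟨i, hi⟩ := exists_res w Qv (congrArg PrimeSpectrum.asIdeal hQ.symm)
  obtain ⟨φ, hφ⟩ := hφ Qv
  have : (res v : Qv.asIdeal.ResidueField →+* L) = i := η.hom_ext' _ φ hφ (Ideal.ResidueField.ringHom_ext
    (RingHom.ext fun a => by
      simp only [RingHom.comp_apply, Ideal.ResidueField.map_algebraMap]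
      exact (RingHom.congr_fun (res_comp v) _).trans
        ((RingHom.congr_fun h a).trans (RingHom.congr_fun hi (f a)).symm)))
  rw [← hi, ← this]
  exact (res_comp v).symm

/-- extension of maps to fixed fields -/
lemma exists_ext (f : A →+* B) (hN : Bijective (η.Nmap f)) {L : Type u} [Field L] (hL : Bijective (η.eta L))
    (g : A →+* L) : ∃ v : B →+* L, v.comp f = g := by
  obtain ⟨hc, hφ⟩ := (η.Nmap_bijective_iff' f).1 hN
  obtain ⟨Q, hQ⟩ := hc.2 ⟨RingHom.ker g, inferInstance⟩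
  obtain ⟨i, hi⟩ := exists_res g (PrimeSpectrum.comap f Q) (congrArg PrimeSpectrum.asIdeal hQ)
  obtain ⟨φ, hφ⟩ := hφ Q
  let e := RingEquiv.ofBijective _ hL
  refine ⟨(e.symm : η.obj L →+* L).comp ((η.map i).comp (φ.comp (algebraMap B _))), RingHom.ext fun a => ?_⟩
  apply e.injective
  show e (e.symm (η.map i (φ (algebraMap B _ (f a))))) = η.eta L (g a)
  rw [e.apply_symm_apply, ← Ideal.ResidueField.map_algebraMap (PrimeSpectrum.comap f Q).asIdeal Q.asIdeal f rfl a,
    ← RingHom.comp_apply φ, hφ, η.eta_apply, ← RingHom.comp_apply i, hi]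

/-- a map into the fraction field of an integrally closed ring with integral image -/
lemma exists_codRestrict {R K : Type*} [CommRing R] [IsDomain R] [IsIntegrallyClosed R] [Field K] [Algebra R K]
    [IsFractionRing R K] (f : A →+* B) (hf : f.IsIntegral) (g : A →+* R) (v : B →+* K)
    (h : v.comp f = (algebraMap R K).comp g) : ∃ g' : B →+* R, (algebraMap R K).comp g' = v ∧ g'.comp f = g := by
  have hmem : ∀ b, ∃ r, algebraMap R K r = v b := fun b => by
    obtain ⟨P, hP, hP0⟩ := hf b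
    refine IsIntegrallyClosed.isIntegral_iff.1 ⟨P.map g, hP.map g, ?_⟩
    rw [Polynomial.eval₂_map, ← h, ← Polynomial.hom_eval₂, hP0, map_zero]
  choose g' hg' using hmem
  have hinj := IsFractionRing.injective R K
  refine ⟨{ toFun := g', map_one' := hinj (by simp [hg']), map_zero' := hinj (by simp [hg']),
            map_add' := fun a b => hinj (by simp [hg']), map_mul' := fun a b => hinj (by simp [hg']) },
    RingHom.ext hg', RingHom.ext fun a => hinj ((hg' (f a)).trans (RingHom.congr_fun h a))⟩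

/-- lifting to valuation rings -/
lemma exists_factor (f : A →+* B) (hf : f.IsIntegral) (hN : Bijective (η.Nmap f))
    (R : Type u) [CommRing R] [IsDomain R] [ValuationRing R] (hR : η.InV R) (g : A →+* R) :
    ∃ g' : B →+* R, g'.comp f = g := by
  obtain ⟨v, hv⟩ := η.exists_ext f hN hR ((algebraMap R (FractionRing R)).comp g)
  obtain ⟨g', -, hg'⟩ := exists_codRestrict f hf g v hv
  exact ⟨g', hg'⟩

lemma mem_M_of_Nmap (f : A →+* B) (hf : f.IsIntegral) (hN : Bijective (η.Nmap f)) {x : η.N A}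
    (hx : η.Nmap f x ∈ η.M B) : x ∈ η.M A :=
  η.mem_M_iff.2 fun R _ _ _ hR g => by
    obtain ⟨g', hg'⟩ := η.exists_factor f hf hN R hR g
    obtain ⟨r, hr⟩ := η.mem_M_iff.1 hx R hR g'
    exact ⟨r, fun k _ h => by rw [← hr, η.pt_Nmap, RingHom.comp_assoc, hg']⟩

lemma bijOn_M (f : A →+* B) (hf : f.IsIntegral) (hN : Bijective (η.Nmap f)) :
    Set.BijOn (η.Nmap f) (η.M A) (η.M B) := by
  refine ⟨fun x hx => η.Nmap_mem_M f hx, hN.1.injOn, fun y hy => ?_⟩
  obtain ⟨x, rfl⟩ := hN.2 y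
  exact ⟨x, η.mem_M_of_Nmap f hf hN hy, rfl⟩

lemma t_injective [IsReduced B] : Injective (η.t B) := by
  rw [injective_iff_map_eq_zero]
  intro b hb
  refine IsReduced.eq_zero b ((nilpotent_iff_mem_prime).2 fun Q hQ => ?_)
  have := congrFun hb ⟨Q, hQ⟩
  exact Ideal.algebraMap_residueField_eq_zero.1 ((η.eta _).injective (this.trans (map_zero _).symm))

lemma exists_lift (g : A →+* B) (hg : g.IsIntegral) (hN : Bijective (η.Nmap g)) :
    ∃ g' : B →+* η.M A, g'.comp g = η.q A ∧ ∀ b, η.Nmap g (g' b : η.N A) = η.t B b := by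
  let e := RingEquiv.ofBijective _ hN
  let z : B →+* η.N A := (e.symm : η.N B →+* η.N A).comp (η.t B)
  have hz : ∀ b, η.Nmap g (z b) = η.t B b := fun b => e.apply_symm_apply _
  refine ⟨z.codRestrict (η.M A) fun b => η.mem_M_of_Nmap g hg hN (by rw [hz]; exact η.t_mem_M B b), ?_, hz⟩
  refine RingHom.ext fun a => Subtype.ext (hN.1 ?_)
  show η.Nmap g (z (g a)) = η.Nmap g (η.t A a)
  rw [hz, η.Nmap_t_apply]

/-- evaluation of `M` at a prime -/
def evM (q : PrimeSpectrum A) : η.M A →+* η.obj q.asIdeal.ResidueField :=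
  (Pi.evalRingHom (fun p : PrimeSpectrum A => η.obj p.asIdeal.ResidueField) q).comp (η.M A).subtype

lemma evM_comp_q (q : PrimeSpectrum A) :
    (η.evM q).comp (η.q A) = (η.eta _).comp (algebraMap A q.asIdeal.ResidueField) := rfl

/-- the prime over `q` -/
def Qof (q : PrimeSpectrum A) : PrimeSpectrum (η.M A) := ⟨RingHom.ker (η.evM q), inferInstance⟩

lemma comap_Qof (q : PrimeSpectrum A) : PrimeSpectrum.comap (η.q A) (η.Qof q) = q := by
  refine PrimeSpectrum.ext ?_
  show (RingHom.ker (η.evM q)).comap (η.q A) = q.asIdeal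
  rw [RingHom.comap_ker, evM_comp_q, RingHom.ker_comp_of_injective _ (η.eta q.asIdeal.ResidueField).injective,
    Ideal.ker_algebraMap_residueField]

lemma exists_minimal_le (hA : (minimalPrimes A).Finite) (Q : PrimeSpectrum (η.M A)) :
    ∃ p : PrimeSpectrum A, p.asIdeal ∈ minimalPrimes A ∧ (η.Qof p).asIdeal ≤ Q.asIdeal := by
  classical
  have hfin : {p : PrimeSpectrum A | p.asIdeal ∈ minimalPrimes A}.Finite :=
    hA.preimage fun a _ b _ h => PrimeSpectrum.ext h
  have h0 : (hfin.toFinset.inf fun p => (η.Qof p).asIdeal) ≤ Q.asIdeal := fun x hx => by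
    rw [Submodule.mem_finsetInf] at hx
    have : x = 0 := Subtype.ext (η.eq_zero_of_minimal x.2 fun p hp => hx p (hfin.mem_toFinset.2 hp))
    rw [this]; exact zero_mem _
  obtain ⟨p, hp, hle⟩ := (Ideal.IsPrime.inf_le' Q.2).1 h0
  exact ⟨p, hfin.mem_toFinset.1 hp, hle⟩

lemma eq_Qof (hA : (minimalPrimes A).Finite) (Q : PrimeSpectrum (η.M A)) :
    Q = η.Qof (PrimeSpectrum.comap (η.q A) Q) := by
  obtain ⟨p, -, hle⟩ := η.exists_minimal_le hA Q
  obtain ⟨O, θ, hθ, hker⟩ := exists_valuation (η.evM p) Q.asIdeal hle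
  let g : A →+* O := θ.comp (η.q A)
  have hkq : RingHom.ker ((IsLocalRing.residue O).comp g) = (PrimeSpectrum.comap (η.q A) Q).asIdeal := by
    rw [← RingHom.comp_assoc, ← RingHom.comap_ker, hker]; rfl
  refine PrimeSpectrum.ext (Ideal.ext fun x => ?_)
  obtain ⟨y, hy, hh⟩ := η.exists_value x.2 (η.good_obj _) O g
  have hyx : y = θ x := Subtype.ext ((η.good_obj _).1 (by
    rw [hy, ← RingHom.comp_assoc, hθ, evM_comp_q, ← η.map_pt, η.pt_algebraMap p, η.map_eta]
    exact congrArg _ (RingHom.congr_fun hθ x).symm))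
  have h1 := hh _ (IsLocalRing.residue O)
  rw [hyx] at h1
  obtain ⟨i, hi⟩ : ∃ i : (PrimeSpectrum.comap (η.q A) Q).asIdeal.ResidueField →+* IsLocalRing.ResidueField O,
      i.comp (algebraMap A _) = (IsLocalRing.residue O).comp g :=
    ⟨Ideal.ResidueField.lift _ ((IsLocalRing.residue O).comp g) hkq.ge
      fun a ha => isUnit_iff_ne_zero.2 fun e => ha (hkq.le e),
      RingHom.ext fun a => Ideal.ResidueField.lift_algebraMap _ _ hkq.ge
        (fun a ha => isUnit_iff_ne_zero.2 fun e => ha (hkq.le e)) a⟩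
  rw [η.pt_eq _ i hi] at h1
  rw [← hker, RingHom.mem_ker, RingHom.comp_apply, ← map_eq_zero (η.eta _), ← h1, map_eq_zero]
  rfl

lemma comap_q_bijective (hA : (minimalPrimes A).Finite) : Bijective (PrimeSpectrum.comap (η.q A)) :=
  ⟨fun Q Q' h => by rw [η.eq_Qof hA Q, η.eq_Qof hA Q', h], fun q => ⟨η.Qof q, η.comap_Qof q⟩⟩

lemma factor_q (hA : (minimalPrimes A).Finite) (Q : PrimeSpectrum (η.M A)) :
    ∃ φ : Q.asIdeal.ResidueField →+* η.obj (PrimeSpectrum.comap (η.q A) Q).asIdeal.ResidueField,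
      φ.comp (algebraMap (η.M A) _) = η.evM _ ∧
      φ.comp (Ideal.ResidueField.map (PrimeSpectrum.comap (η.q A) Q).asIdeal Q.asIdeal (η.q A) rfl) =
        η.eta (PrimeSpectrum.comap (η.q A) Q).asIdeal.ResidueField := by
  have hk : Q.asIdeal = RingHom.ker (η.evM (PrimeSpectrum.comap (η.q A) Q)) :=
    congrArg PrimeSpectrum.asIdeal (η.eq_Qof hA Q)
  let φ := Ideal.ResidueField.lift Q.asIdeal (η.evM (PrimeSpectrum.comap (η.q A) Q)) hk.le
    fun a ha => isUnit_iff_ne_zero.2 fun e => ha (hk.ge e)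
  have hφ : ∀ a, φ (algebraMap _ _ a) = η.evM _ a := fun a => Ideal.ResidueField.lift_algebraMap _ _ hk.le
    (fun a ha => isUnit_iff_ne_zero.2 fun e => ha (hk.ge e)) a
  exact ⟨φ, RingHom.ext hφ, Ideal.ResidueField.ringHom_ext (RingHom.ext fun a => by
    simp only [RingHom.comp_apply, Ideal.ResidueField.map_algebraMap, hφ]; rfl)⟩

lemma Nmap_q_bijective (hA : (minimalPrimes A).Finite) : Bijective (η.Nmap (η.q A)) :=
  (η.Nmap_bijective_iff' _).2 ⟨η.comap_q_bijective hA, fun Q =>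
    let ⟨φ, _, h⟩ := η.factor_q hA Q; ⟨φ, h⟩⟩

lemma Nmap_q_eq_t (hA : (minimalPrimes A).Finite) (x : η.M A) :
    η.Nmap (η.q A) (x : η.N A) = η.t (η.M A) x := by
  funext Q
  obtain ⟨φ, hφ, -⟩ := η.factor_q hA Q
  apply (η.map φ).injective
  rw [η.Nmap_apply, η.map_pt, ← RingHom.comp_assoc, hφ, evM_comp_q, ← η.map_pt, η.pt_algebraMap, η.map_eta]
  exact (congrArg _ (RingHom.congr_fun hφ x).symm).trans (η.eta_apply φ _).symm

lemma isReduced_M : IsReduced (η.M A) :=
  isReduced_of_injective (η.M A).subtype Subtype.coe_injective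

lemma bijective_of_reduced (hA : (minimalPrimes A).Finite) [IsReduced B] (f : η.M A →+* B) (hf : f.IsIntegral)
    (hN : Bijective (η.Nmap f)) : Bijective f := by
  have := η.isReduced_M (A := A)
  refine ⟨(injective_iff_map_eq_zero f).2 fun x hx => η.t_injective (hN.1 ?_), fun b => ?_⟩
  · rw [η.Nmap_t_apply, hx, map_zero, map_zero, map_zero]
  · obtain ⟨y, hy⟩ := hN.2 (η.t B b)
    obtain ⟨z, rfl⟩ := (η.Nmap_q_bijective hA).2 y
    have hz : z ∈ η.M A := by
      refine η.mem_M_of_Nmap (f.comp (η.q A)) ((η.isIntegral_q hA).trans _ _ hf) ?_ ?_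
      · have : ⇑(η.Nmap (f.comp (η.q A))) = η.Nmap f ∘ η.Nmap (η.q A) := funext fun x => η.Nmap_comp _ _ x
        rw [this]; exact hN.comp (η.Nmap_q_bijective hA)
      · rw [η.Nmap_comp, hy]; exact η.t_mem_M B b
    refine ⟨⟨z, hz⟩, η.t_injective ?_⟩
    rw [← η.Nmap_t_apply, ← η.Nmap_q_eq_t hA, hy]

lemma minimalPrimes_M_finite (hA : (minimalPrimes A).Finite) : (minimalPrimes (η.M A)).Finite := by
  classical
  refine (hA.image fun p => if h : p.IsPrime then (η.Qof ⟨p, h⟩).asIdeal else ⊥).subset fun Q hQ => ?_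
  obtain ⟨p, hp, hle⟩ := η.exists_minimal_le hA ⟨Q, hQ.1.1⟩
  refine ⟨p.asIdeal, hp, ?_⟩
  show dite _ _ _ = Q
  rw [dif_pos p.2]
  exact le_antisymm hle (hQ.2 ⟨(η.Qof p).2, bot_le⟩ hle)

lemma bijective_q_M (hA : (minimalPrimes A).Finite) : Bijective (η.q (η.M A)) := by
  have := η.minimalPrimes_M_finite hA
  have := η.isReduced_M (A := η.M A)
  exact η.bijective_of_reduced hA (η.q (η.M A)) (η.isIntegral_q ‹_›) (η.Nmap_q_bijective ‹_›)

/-- extensions along integral maps surjective on spectra -/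
lemma exists_ext_algClosed (f : A →+* B) (hf : f.IsIntegral) (hs : Surjective (PrimeSpectrum.comap f))
    {E : Type u} [Field E] [IsAlgClosed E] (g : A →+* E) : ∃ v : B →+* E, v.comp f = g := by
  obtain ⟨Q, hQ⟩ := hs ⟨RingHom.ker g, inferInstance⟩
  obtain ⟨i, hi⟩ := exists_res g (PrimeSpectrum.comap f Q) (congrArg PrimeSpectrum.asIdeal hQ)
  let ι := Ideal.ResidueField.map (PrimeSpectrum.comap f Q).asIdeal Q.asIdeal f rfl
  let := ι.toAlgebra
  let := i.toAlgebra
  have hint : ∀ b : B, IsIntegral (PrimeSpectrum.comap f Q).asIdeal.ResidueField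
      (algebraMap B Q.asIdeal.ResidueField b) := fun b => by
    obtain ⟨P, hP, hP0⟩ := hf b
    refine ⟨P.map (algebraMap A _), hP.map _, ?_⟩
    rw [Polynomial.eval₂_map, show (algebraMap (PrimeSpectrum.comap f Q).asIdeal.ResidueField Q.asIdeal.ResidueField).comp
      (algebraMap A _) = (algebraMap B _).comp f from RingHom.ext fun a =>
        Ideal.ResidueField.map_algebraMap _ _ f rfl a, ← Polynomial.hom_eval₂, hP0, map_zero]
  have : Algebra.IsAlgebraic (PrimeSpectrum.comap f Q).asIdeal.ResidueField Q.asIdeal.ResidueField := ⟨fun x => by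
    obtain ⟨x₁, x₂, -, rfl⟩ := IsFractionRing.div_surjective (A := B ⧸ Q.asIdeal) x
    obtain ⟨b₁, rfl⟩ := Ideal.Quotient.mk_surjective x₁
    obtain ⟨b₂, rfl⟩ := Ideal.Quotient.mk_surjective x₂
    rw [div_eq_mul_inv]
    exact (IsIntegral.mul (hint b₁) (hint b₂).inv).isAlgebraic⟩
  let ψ : Q.asIdeal.ResidueField →ₐ[(PrimeSpectrum.comap f Q).asIdeal.ResidueField] E := IsAlgClosed.lift
  refine ⟨ψ.toRingHom.comp (algebraMap B _), RingHom.ext fun a => ?_⟩
  show ψ (algebraMap B _ (f a)) = g a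
  rw [← Ideal.ResidueField.map_algebraMap (PrimeSpectrum.comap f Q).asIdeal Q.asIdeal f rfl a]
  exact (ψ.commutes _).trans (RingHom.congr_fun hi a)

end EtaPt.FieldEndo
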