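import Groth.Agent.Eta.Away

/-!
# The relative construction
-/

open Function

noncomputable section

universe u

namespace EtaPt.FieldEndo

variable (η : FieldEndo.{u}) {A B : Type u} [CommRing A] [CommRing B]

lemma mem_rel_iff {f : A →+* B} {b : B} : b ∈ η.rel f ↔ ∃ x ∈ η.M A, η.Nmap f x = η.t B b := Iff.rfl

lemma map_mem_rel_of_square {A' B' : Type u} [CommRing A'] [CommRing B'] (j : A →+* B) (f : A →+* A')
    (g : B →+* B') (j' : A' →+* B') (hcomm : j'.comp f = g.comp j) {b : B} (hb : b ∈ η.rel j) :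
    g b ∈ η.rel j' := by
  obtain ⟨x, hx, h⟩ := η.mem_rel_iff.1 hb
  exact η.mem_rel_iff.2 ⟨η.Nmap f x, η.Nmap_mem_M f hx, by
    rw [← η.Nmap_comp, hcomm, η.Nmap_comp, h, η.Nmap_t_apply]⟩

lemma bijective_qRel_iff (f : A →+* B) :
    Bijective (η.qRel f) ↔ Injective f ∧ ∀ b ∈ η.rel f, ∃ a, f a = b :=
  ⟨fun h => ⟨fun a a' e => h.1 (Subtype.ext e), fun b hb =>
      let ⟨a, ha⟩ := h.2 ⟨b, hb⟩; ⟨a, congrArg Subtype.val ha⟩⟩,
    fun ⟨hi, hs⟩ => ⟨fun a a' e => hi (congrArg Subtype.val e), fun b =>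
      let ⟨a, ha⟩ := hs b b.2; ⟨a, Subtype.ext ha⟩⟩⟩

variable (f : A →+* B) (hs : Surjective (PrimeSpectrum.comap f))

include hs in
lemma exists_toM : ∃ π : η.rel f →+* η.M A, (∀ b, η.Nmap f (π b : η.N A) = η.t B b) ∧
    π.comp (η.qRel f) = η.q A := by
  have hinj := η.Nmap_injective_of_surjective f hs
  have hπ : ∀ b : η.rel f, ∃ x : η.M A, η.Nmap f (x : η.N A) = η.t B b := fun b => by
    obtain ⟨x, hx, h⟩ := η.mem_rel_iff.1 b.2
    exact ⟨⟨x, hx⟩, h⟩
  choose π hπ using hπ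
  refine ⟨{ toFun := π
            map_one' := Subtype.ext (hinj (by simp [hπ]))
            map_zero' := Subtype.ext (hinj (by simp [hπ]))
            map_add' := fun a b => Subtype.ext (hinj (by simp [hπ]))
            map_mul' := fun a b => Subtype.ext (hinj (by simp [hπ])) }, hπ,
    RingHom.ext fun a => Subtype.ext (hinj ((hπ _).trans (η.Nmap_t_apply f a).symm))⟩

variable (hA : (minimalPrimes A).Finite)

lemma isNilpotent_of_t_eq_zero {b : B} (h : η.t B b = 0) : IsNilpotent b :=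
  nilpotent_iff_mem_prime.2 fun Q hQ =>
    Ideal.algebraMap_residueField_eq_zero.1 ((η.eta _).injective ((congrFun h ⟨Q, hQ⟩).trans (map_zero _).symm))

lemma isNilpotent_of_toM {π : η.rel f →+* η.M A} (hπ : ∀ b, η.Nmap f (π b : η.N A) = η.t B b) {b : η.rel f}
    (h : π b = 0) : IsNilpotent b := by
  obtain ⟨n, hn⟩ := η.isNilpotent_of_t_eq_zero (b := (b : B)) (by rw [← hπ, h, ZeroMemClass.coe_zero, map_zero])
  exact ⟨n, Subtype.ext hn⟩

include hs hA in
lemma isIntegral_qRel : (η.qRel f).IsIntegral := fun b => by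
  obtain ⟨π, hπ, hπq⟩ := η.exists_toM f hs
  obtain ⟨P, hP, hP0⟩ := η.isIntegral_q hA (π b)
  obtain ⟨n, hn⟩ := η.isNilpotent_of_toM f hπ (b := P.eval₂ (η.qRel f) b)
    (by rw [Polynomial.hom_eval₂, hπq, hP0])
  exact ⟨P ^ n, hP.pow n, by rw [Polynomial.eval₂_pow]; exact hn⟩

include hs hA in
lemma rel_spec : Bijective (PrimeSpectrum.comap (η.qRel f)) ∧
    ∀ Q : PrimeSpectrum (η.rel f),
      ∃ φ : Q.asIdeal.ResidueField →+* η.obj (PrimeSpectrum.comap (η.qRel f) Q).asIdeal.ResidueField,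
        φ.comp (Ideal.ResidueField.map (PrimeSpectrum.comap (η.qRel f) Q).asIdeal Q.asIdeal (η.qRel f) rfl) =
          η.eta (PrimeSpectrum.comap (η.qRel f) Q).asIdeal.ResidueField := by
  obtain ⟨π, hπ, hπq⟩ := η.exists_toM f hs
  have hπint : π.IsIntegral := RingHom.IsIntegral.tower_top (η.qRel f) π (hπq ▸ η.isIntegral_q hA)
  have hsurj : ∀ Q : PrimeSpectrum (η.rel f), ∃ Q', PrimeSpectrum.comap π Q' = Q := fun Q => by
    let := π.toAlgebra
    have : Algebra.IsIntegral (η.rel f) (η.M A) := ⟨hπint⟩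
    obtain ⟨Q', -, hQ', e⟩ := Ideal.exists_ideal_over_prime_of_isIntegral Q.asIdeal (⊥ : Ideal (η.M A))
      (fun b hb => Q.2.mem_of_pow_mem _ (show b ^ (η.isNilpotent_of_toM f hπ (b := b) hb).choose ∈ Q.asIdeal by
        rw [(η.isNilpotent_of_toM f hπ (b := b) hb).choose_spec]; exact zero_mem _))
    exact ⟨⟨Q', hQ'⟩, PrimeSpectrum.ext e⟩
  have hcomp : ∀ Q', PrimeSpectrum.comap (η.qRel f) (PrimeSpectrum.comap π Q') = PrimeSpectrum.comap (η.q A) Q' :=
    fun Q' => by rw [← PrimeSpectrum.comap_comp_apply, hπq]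
  refine ⟨⟨fun Q₁ Q₂ e => ?_, fun q => ?_⟩, fun Q => ?_⟩
  · obtain ⟨Q₁, rfl⟩ := hsurj Q₁
    obtain ⟨Q₂, rfl⟩ := hsurj Q₂
    rw [hcomp, hcomp] at e
    rw [(η.comap_q_bijective hA).1 e]
  · obtain ⟨Q', rfl⟩ := (η.comap_q_bijective hA).2 q
    exact ⟨_, hcomp Q'⟩
  · obtain ⟨Q', rfl⟩ := hsurj Q
    have key : ∀ q : PrimeSpectrum A, PrimeSpectrum.comap (η.q A) Q' = q →
        ∀ ι : q.asIdeal.ResidueField →+* (PrimeSpectrum.comap π Q').asIdeal.ResidueField,
        ι.comp (algebraMap A _) = (algebraMap _ _).comp (η.qRel f) →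
        ∃ φ : (PrimeSpectrum.comap π Q').asIdeal.ResidueField →+* η.obj q.asIdeal.ResidueField,
          φ.comp ι = η.eta q.asIdeal.ResidueField := by
      rintro q rfl ι hι
      obtain ⟨φ, -, hφ⟩ := η.factor_q hA Q'
      refine ⟨φ.comp (Ideal.ResidueField.map (PrimeSpectrum.comap π Q').asIdeal Q'.asIdeal π rfl), ?_⟩
      rw [← hφ, RingHom.comp_assoc]
      congr 1
      refine Ideal.ResidueField.ringHom_ext (RingHom.ext fun a => ?_)
      simp only [RingHom.comp_apply]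
      rw [← RingHom.comp_apply ι, hι, RingHom.comp_apply, Ideal.ResidueField.map_algebraMap,
        Ideal.ResidueField.map_algebraMap, ← RingHom.comp_apply π, hπq]
    exact key _ (hcomp Q').symm _ (RingHom.ext fun a => Ideal.ResidueField.map_algebraMap _ _ _ rfl a)

variable (a : A)

include hA in
lemma rel_away_spec {y : Localization.Away (f a)} (hy : y ∈ η.rel (Localization.awayMap f a)) :
    ∃ x ∈ η.rel f, ∃ n : ℕ,
      y * algebraMap B (Localization.Away (f a)) (f a) ^ n = algebraMap B (Localization.Away (f a)) x := by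
  obtain ⟨x1, hx1, h1⟩ := η.mem_rel_iff.1 hy
  obtain ⟨x, hx, n, hxn⟩ := η.exists_mem_M a hA hx1
  obtain ⟨k, b0, hb0⟩ := IsLocalization.Away.surj (f a) y
  have hcomm : (Localization.awayMap f a).comp (algebraMap A (Localization.Away a)) =
      (algebraMap B (Localization.Away (f a))).comp f := by
    rw [Localization.awayMap, IsLocalization.Away.map, IsLocalization.map_comp]
  let x' := x * η.t A (a ^ k)
  let b2 := b0 * f a ^ n
  have hd : η.Nmap (algebraMap B (Localization.Away (f a))) (η.Nmap f x' - η.t B b2) = 0 := by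
    rw [map_sub, ← η.Nmap_comp, ← hcomm, η.Nmap_comp, map_mul, ← hxn, η.Nmap_t_apply, map_mul, map_mul, map_pow, h1,
      η.Nmap_t_apply, η.Nmap_t_apply, η.Nmap_t_apply, ← RingHom.comp_apply (Localization.awayMap f a), hcomm,
      ← RingHom.comp_apply (Localization.awayMap f a), hcomm, RingHom.comp_apply, RingHom.comp_apply, sub_eq_zero,
      ← map_pow, ← map_mul, ← map_mul]
    congr 1
    rw [map_mul, map_pow, map_pow, map_pow, ← hb0]
    ring
  refine ⟨b2 * f a, η.mem_rel_iff.2 ⟨x' * η.t A a, mul_mem (mul_mem hx (η.t_mem_M A _)) (η.t_mem_M A _), ?_⟩,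
    k + n + 1, ?_⟩
  · have := η.t_mul_eq_zero (f a) hd
    rw [mul_sub, sub_eq_zero] at this
    calc η.Nmap f (x' * η.t A a) = η.t B (f a) * η.Nmap f x' := by rw [map_mul (η.Nmap f) x', η.Nmap_t_apply, mul_comm]
      _ = η.t B (f a) * η.t B b2 := this
      _ = η.t B (b2 * f a) := by rw [map_mul (η.t B) b2, map_mul (η.t B), mul_comm]
  · rw [map_mul, map_mul, map_pow, ← hb0]
    ring

lemma map_rel_away_le : (η.rel f).map (algebraMap B (Localization.Away (f a))) ≤ η.rel (Localization.awayMap f a) := by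
  rintro _ ⟨b, hb, rfl⟩
  refine η.map_mem_rel_of_square f (algebraMap A _) _ _ ?_ hb
  rw [Localization.awayMap, IsLocalization.Away.map, IsLocalization.map_comp]

end EtaPt.FieldEndo
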