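import Groth.Agent.Eta.Main

/-!
# Members of `M` from their values
-/

open Function

noncomputable section

universe u

namespace EtaPt.FieldEndo

variable (η : FieldEndo.{u}) {A B : Type u} [CommRing A] [CommRing B]

/-- criterion: one test field at each prime -/
lemma mem_M_of (x : η.N A) (H : ∀ (R : Type u) [CommRing R] [IsDomain R] [ValuationRing R], η.InV R →
    ∀ g : A →+* R, ∃ r : R, ∀ P : Ideal R, P.IsPrime →
      ∃ (k : Type u) (_ : Field k) (h : R →+* k), RingHom.ker h = P ∧ η.pt (h.comp g) x = η.eta k (h r)) :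
    x ∈ η.M A := by
  refine η.mem_M_iff.2 fun R _ _ _ hR g => ?_
  obtain ⟨r, hr⟩ := H R hR g
  refine ⟨r, fun k _ h => ?_⟩
  obtain ⟨k', inst, h', hker, heq⟩ := hr (RingHom.ker h) inferInstance
  obtain ⟨i', hi'⟩ := exists_res h' ⟨RingHom.ker h, inferInstance⟩ hker.symm
  obtain ⟨i, hi⟩ := exists_res h ⟨RingHom.ker h, inferInstance⟩ rfl
  have key : η.pt ((algebraMap R (RingHom.ker h).ResidueField).comp g) x =
      η.eta _ (algebraMap R (RingHom.ker h).ResidueField r) := by
    apply (η.map i').injective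
    rw [η.map_pt, ← RingHom.comp_assoc, hi', heq, η.eta_apply]
    exact congrArg _ (RingHom.congr_fun hi' r).symm
  have := congrArg (η.map i) key
  rw [η.map_pt, ← RingHom.comp_assoc, hi, η.eta_apply] at this
  exact this.trans (congrArg _ (RingHom.congr_fun hi r))

lemma M_eq_top (K : Type u) [Field K] : η.M K = ⊤ := by
  refine eq_top_iff.2 fun x _ => η.mem_M_of x fun R _ _ _ hR g => ?_
  let x0 := η.pt (RingHom.id K) x
  have hx : ∀ {L : Type u} [Field L] (f : K →+* L), η.pt f x = η.map f x0 := fun f => by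
    rw [η.map_pt, RingHom.comp_id]
  obtain ⟨n, a, ha⟩ := η.exists_pow_mem_range_eta K x0
  let q := ringExpChar K
  have hq : 0 < q ^ n := pow_pos (expChar_pos K q) n
  obtain ⟨r0, hr0⟩ := (hR : Bijective (η.eta (FractionRing R))).2 (η.pt ((algebraMap R _).comp g) x)
  have hpow : ∀ {L : Type u} [Field L] (f : K →+* L), η.pt f x ^ q ^ n = η.eta L (f a) := fun f => by
    rw [hx, ← map_pow, ← ha, η.eta_apply]
  have hr0' : r0 ^ q ^ n = algebraMap R (FractionRing R) (g a) := hR.1 (by rw [map_pow, hr0, hpow]; rfl)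
  obtain ⟨r, rfl⟩ := IsIntegrallyClosed.isIntegral_iff.1
    (IsIntegral.of_pow hq (hr0' ▸ isIntegral_algebraMap : IsIntegral R (r0 ^ q ^ n)))
  have hr : r ^ q ^ n = g a := IsFractionRing.injective R (FractionRing R) (by rw [map_pow, hr0'])
  refine ⟨r, fun P hP => ⟨P.ResidueField, inferInstance, algebraMap R _, Ideal.ker_algebraMap_residueField P, ?_⟩⟩
  have : ExpChar K q := inferInstance
  have := expChar_of_injective_ringHom ((η.eta P.ResidueField).comp ((algebraMap R _).comp g)).injective q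
  refine pow_inj q (n := n) ?_
  rw [hpow, ← map_pow, ← map_pow, hr]; rfl

lemma mem_M_iff_of_surjective (f : A →+* B) (hf : f.IsIntegral) (hs : Surjective (PrimeSpectrum.comap f))
    (x : η.N A) : x ∈ η.M A ↔ η.Nmap f x ∈ η.M B := by
  refine ⟨η.Nmap_mem_M f, fun hx => η.mem_M_of x fun R _ _ _ hR g => ?_⟩
  let K := FractionRing R
  let Kb := AlgebraicClosure K
  let j : R →+* η.obj Kb := ((η.eta Kb).comp (algebraMap K Kb)).comp (algebraMap R K)
  have hj : Injective j := ((η.eta Kb).injective.comp (algebraMap K Kb).injective).comp (IsFractionRing.injective R K)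
  obtain ⟨v0, hv0⟩ := exists_ext_algClosed f hf hs (((algebraMap K Kb).comp (algebraMap R K)).comp g)
  let v : B →+* η.obj Kb := (η.eta Kb).comp v0
  have hv : v.comp f = j.comp g := by
    show (η.eta Kb).comp (v0.comp f) = _
    rw [hv0]; rfl
  obtain ⟨r0, hr0⟩ := (hR : Bijective (η.eta K)).2 (η.pt ((algebraMap R K).comp g) x)
  let J : K →+* η.obj Kb := (η.eta Kb).comp (algebraMap K Kb)
  have hJ : η.eta (η.obj Kb) (J r0) = η.pt (j.comp g) x := by
    rw [← η.eta_apply J, hr0, η.map_pt]; rfl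
  have hP : ∀ P : Ideal R, P.IsPrime → ∃ (O : ValuationSubring (η.obj Kb)) (j' : R →+* O) (y : O),
      O.subtype.comp j' = j ∧ RingHom.ker ((IsLocalRing.residue O).comp j') = P ∧ (y : η.obj Kb) = J r0 ∧
      η.pt ((IsLocalRing.residue O).comp (j'.comp g)) x = η.eta _ (IsLocalRing.residue O y) := fun P hP => by
    obtain ⟨O, j', hj', hker⟩ := exists_valuation j P (by rw [(RingHom.injective_iff_ker_eq_bot j).1 hj]; exact bot_le)
    obtain ⟨gB, hgB, hgBf⟩ := exists_codRestrict (K := η.obj Kb) f hf (j'.comp g) v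
      (hv.trans (by rw [← hj']; rfl))
    obtain ⟨y, hy, hh⟩ := η.exists_value hx (η.good_obj Kb) O gB
    refine ⟨O, j', y, hj', hker, (η.good_obj Kb).1 ?_, ?_⟩
    · rw [hy, η.pt_Nmap, RingHom.comp_assoc, hgBf, ← RingHom.comp_assoc, hj', hJ]
    · rw [← hh _ (IsLocalRing.residue O), η.pt_Nmap, RingHom.comp_assoc, hgBf]
  obtain ⟨r, hr⟩ : ∃ r, algebraMap R K r = r0 := by
    rcases ValuationRing.isInteger_or_isInteger R r0 with ⟨r, hr⟩ | ⟨s, hs'⟩
    · exact ⟨r, hr⟩
    by_cases hu : IsUnit s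
    · obtain ⟨s, rfl⟩ := hu
      exact ⟨(s⁻¹ : Rˣ), by rw [map_units_inv, hs', inv_inv]⟩
    by_cases h0 : r0 = 0
    · exact ⟨0, by rw [h0, map_zero]⟩
    exfalso
    obtain ⟨O, j', y, hj', hker, hy, -⟩ := hP _ (IsLocalRing.maximalIdeal.isMaximal R).isPrime
    have h1 : j' s * y = 1 := Subtype.ext (by
      show O.subtype (j' s) * (y : η.obj Kb) = 1
      rw [← RingHom.comp_apply, hj', hy]
      show J (algebraMap R K s) * J r0 = 1
      rw [← map_mul, hs', inv_mul_cancel₀ h0, map_one])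
    have h2 := congrArg (IsLocalRing.residue O) h1
    rw [map_mul, map_one, ← RingHom.comp_apply, RingHom.mem_ker.1 (hker.ge hu), zero_mul] at h2
    exact zero_ne_one h2
  refine ⟨r, fun P hPp => ?_⟩
  obtain ⟨O, j', y, hj', hker, hy, heq⟩ := hP P hPp
  refine ⟨_, inferInstance, (IsLocalRing.residue O).comp j', hker, heq.trans ?_⟩
  rw [show y = j' r from Subtype.ext (hy.trans (by rw [← hr]; exact (RingHom.congr_fun hj' r).symm))]
  rfl

lemma good_bot [IsDomain A] (hA : η.InV A) : Bijective (η.eta (⊥ : Ideal A).ResidueField) :=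
  η.good_of_equiv (FractionRing.algEquiv A (⊥ : Ideal A).ResidueField).toRingEquiv hA

lemma minimal_eq_bot [IsDomain A] {p : PrimeSpectrum A} (hp : p.asIdeal ∈ minimalPrimes A) :
    p = ⟨⊥, Ideal.isPrime_bot⟩ :=
  PrimeSpectrum.ext (le_antisymm (hp.2 ⟨Ideal.isPrime_bot, le_rfl⟩ bot_le) bot_le)

lemma ext_bot [IsDomain A] {x y : η.N A} (hx : x ∈ η.M A) (hy : y ∈ η.M A)
    (h : x ⟨⊥, Ideal.isPrime_bot⟩ = y ⟨⊥, Ideal.isPrime_bot⟩) : x = y :=
  η.ext_minimal hx hy fun p hp => by rw [minimal_eq_bot hp]; exact h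

lemma isIntegralElem_at (p : PrimeSpectrum A) {x : η.N A} (hx : x ∈ η.M A) :
    ((η.eta p.asIdeal.ResidueField).comp (algebraMap A _)).IsIntegralElem (x p) := by
  have := η.isIntegralElem_pt hx (algebraMap A p.asIdeal.ResidueField)
  rwa [η.pt_algebraMap] at this

lemma exists_t_of_mem_range [IsDomain A] [IsIntegrallyClosed A] {y : η.obj (⊥ : Ideal A).ResidueField}
    (hy : ((η.eta (⊥ : Ideal A).ResidueField).comp (algebraMap A _)).IsIntegralElem y)
    (hr : y ∈ Set.range (η.eta (⊥ : Ideal A).ResidueField)) :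
    ∃ a, η.t A a ⟨⊥, Ideal.isPrime_bot⟩ = y := by
  obtain ⟨k, rfl⟩ := hr
  obtain ⟨P, hP, hP0⟩ := hy
  rw [← Polynomial.hom_eval₂] at hP0
  obtain ⟨a, rfl⟩ := IsIntegrallyClosed.isIntegral_iff.1
    (⟨P, hP, (η.eta _).injective (hP0.trans (map_zero _).symm)⟩ : IsIntegral A k)
  exact ⟨a, rfl⟩

lemma bijective_q_of_integrallyClosed [IsDomain A] [IsIntegrallyClosed A] (hA : η.InV A) : Bijective (η.q A) := by
  refine ⟨fun a b h => η.t_injective (congrArg Subtype.val h), fun x => ?_⟩
  obtain ⟨a, ha⟩ := η.exists_t_of_mem_range (η.isIntegralElem_at ⟨⊥, Ideal.isPrime_bot⟩ x.2) ((η.good_bot hA).2 _)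
  exact ⟨a, Subtype.ext (η.ext_bot (η.t_mem_M A a) x.2 ha)⟩

/-- the values at the generic point of a valuation ring -/
lemma image_M_valuation (R : Type u) [CommRing R] [IsDomain R] [ValuationRing R]
    (hη : η.InV R ∨ ∀ (k : Type u) [Field k], ringChar k = ringChar R →
      Function.Bijective (η.eta k) → PerfectField k) :
    (fun x : η.N R => x ⟨⊥, Ideal.isPrime_bot⟩) '' (η.M R : Set (η.N R)) =
      {y | ((η.eta (⊥ : Ideal R).ResidueField).comp (algebraMap R (⊥ : Ideal R).ResidueField)).IsIntegralElem y} := by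
  classical
  refine Set.eq_of_subset_of_subset (fun y ⟨x, hx, e⟩ => e ▸ η.isIntegralElem_at ⟨⊥, Ideal.isPrime_bot⟩ hx)
    fun y hy => ?_
  by_cases hr : y ∈ Set.range (η.eta (⊥ : Ideal R).ResidueField)
  · obtain ⟨a, ha⟩ := η.exists_t_of_mem_range hy hr
    exact ⟨_, η.t_mem_M R a, ha⟩
  have hperf : ∀ (k : Type u) [Field k], ringChar k = ringChar R →
      Function.Bijective (η.eta k) → PerfectField k :=
    hη.resolve_left fun h => hr ((η.good_bot h).2 y)
  let K0 := (⊥ : Ideal R).ResidueField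
  obtain ⟨n, k, hk⟩ := η.exists_pow_mem_range_eta K0 y
  rcases expChar_is_prime_or_one K0 (ringExpChar K0) with hp | hp
  swap
  · exact absurd ⟨k, by rw [hk, hp, one_pow, pow_one]⟩ hr
  have hchar : CharP R (ringExpChar K0) := by
    have key : ∀ q, ExpChar K0 q → q.Prime → CharP K0 q := fun q h hq => by
      cases h with
      | zero => exact absurd hq Nat.not_prime_one
      | prime _ => assumption
    have : CharP K0 (ringExpChar K0) := key _ inferInstance hp
    exact (RingHom.charP (algebraMap R K0) (IsFractionRing.injective R K0) _)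
  set p := ringExpChar K0 with hpdef
  have : Fact p.Prime := ⟨hp⟩
  have hq : 0 < p ^ n := pow_pos hp.pos n
  obtain ⟨a, ha⟩ : ∃ a, algebraMap R K0 a = k := by
    obtain ⟨P, hP, hP0⟩ := hy
    let := ((η.eta K0).comp (algebraMap R K0)).toAlgebra
    have h2 : IsIntegral R (η.eta K0 k) := hk ▸ IsIntegral.pow (⟨P, hP, hP0⟩ : IsIntegral R y) _
    obtain ⟨Q, hQ, hQ0⟩ := h2
    rw [RingHom.algebraMap_toAlgebra, ← Polynomial.hom_eval₂] at hQ0
    exact IsIntegrallyClosed.isIntegral_iff.1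
      (⟨Q, hQ, (η.eta K0).injective (hQ0.trans (map_zero _).symm)⟩ : IsIntegral R k)
  have hcharField : ∀ (k : Type u) [Field k], (R →+* k) → CharP k p := fun k _ f => by
    refine (CharP.charP_iff_prime_eq_zero hp).2 ?_
    rw [← map_natCast f, CharP.cast_eq_zero, map_zero]
  have root : ∀ (L : Type u) [Field L], Bijective (η.eta L) → ∀ (f : R →+* L) (z : L), ∃ w : L, w ^ p ^ n = z :=
    fun L _ hL f z => by
      have := hcharField L f
      have := hperf L (by rw [ringChar.eq L p, ringChar.eq R p]) hL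
      exact ⟨(iterateFrobeniusEquiv L p n).symm z, (iterateFrobeniusEquiv L p n).apply_symm_apply z⟩
  choose x hx using fun P : PrimeSpectrum R => root (η.obj P.asIdeal.ResidueField) (η.good_obj _)
    ((η.eta _).comp (algebraMap R _)) (η.t R a P)
  have hchar' : ∀ (k : Type u) [Field k], (R →+* k) → ExpChar k p := fun k _ f =>
    have := hcharField k f; ExpChar.prime hp
  refine ⟨x, η.mem_M_of x fun R' _ _ _ hR' g => ?_, ?_⟩
  · have hpow : ∀ {L : Type u} [Field L] (f : R →+* L), η.pt f x ^ p ^ n = η.eta L (f a) := fun {L} _ f => by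
      rw [η.pt_eq ⟨RingHom.ker f, inferInstance⟩ (res f) (res_comp f), ← map_pow, hx, ← η.pt_eq
        ⟨RingHom.ker f, inferInstance⟩ (res f) (res_comp f), η.pt_t]
    obtain ⟨w, hw⟩ := root (FractionRing R') hR' ((algebraMap R' _).comp g) (algebraMap R' _ (g a))
    obtain ⟨r, rfl⟩ := IsIntegrallyClosed.isIntegral_iff.1
      (IsIntegral.of_pow hq (hw ▸ isIntegral_algebraMap : IsIntegral R' (w ^ p ^ n)))
    have hr : r ^ p ^ n = g a := IsFractionRing.injective R' (FractionRing R') (by rw [map_pow, hw])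
    refine ⟨r, fun P hP => ⟨P.ResidueField, inferInstance, algebraMap R' _, Ideal.ker_algebraMap_residueField P, ?_⟩⟩
    have := hchar' _ ((η.eta P.ResidueField).comp ((algebraMap R' _).comp g))
    refine pow_inj p (n := n) ?_
    rw [hpow, ← map_pow, ← map_pow, hr]; rfl
  · have := hchar' _ ((η.eta K0).comp (algebraMap R K0))
    refine pow_inj p (n := n) ?_
    show x _ ^ p ^ n = y ^ p ^ n
    rw [hx, ← hk, ← ha]
    rfl

end EtaPt.FieldEndo
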